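import Groth.Prelude.Def_HTop2
import Groth.Prelude.Def_W4c1hilbchowincPtFun
import Mathlib.AlgebraicGeometry.Properties
import Mathlib.RingTheory.IntegralClosure.IntegrallyClosed
import Mathlib.RingTheory.Polynomial.RationalRoot

/-!
A scheme on which functions varying along DVRs are uniquely algebraic has seminormal global sections.
-/

set_option autoImplicit false
set_option linter.style.haveILetI false
set_option backward.isDefEq.respectTransparency false
set_option backward.isDefEq.respectTransparency.types false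

universe u

open CategoryTheory AlgebraicGeometry W4c1hilbchowinc

noncomputable section

namespace Groth.Agent.SNPtFun

lemma eq_of_sq_cube {K : Type*} [Field K] {a b : K} (h2 : a ^ 2 = b ^ 2) (h3 : a ^ 3 = b ^ 3) : a = b := by
  rcases eq_or_ne b 0 with hb | hb
  · subst hb
    simpa using h2
  · refine mul_left_cancel₀ (pow_ne_zero 2 hb) ?_
    calc b ^ 2 * a = a ^ 2 * a := by rw [h2]
      _ = b ^ 2 * b := by rw [← pow_succ, ← pow_succ, h3]

lemma exists_sq_cube_field {K : Type*} [Field K] (x y : K) (h : x ^ 3 = y ^ 2) :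
    ∃ u : K, x = u ^ 2 ∧ y = u ^ 3 := by
  rcases eq_or_ne x 0 with hx | hx
  · subst hx
    refine ⟨0, by simp, ?_⟩
    simpa using h.symm
  · refine ⟨y / x, ?_, ?_⟩ <;> field_simp
    · linear_combination h
    · linear_combination y * h

lemma exists_sq_cube {R : Type*} [CommRing R] [IsDomain R] [IsIntegrallyClosed R] (x y : R)
    (h : x ^ 3 = y ^ 2) : ∃ r : R, x = r ^ 2 ∧ y = r ^ 3 := by
  have hinj := IsFractionRing.injective R (FractionRing R)
  obtain ⟨u, hu2, hu3⟩ := exists_sq_cube_field (algebraMap R (FractionRing R) x) (algebraMap R _ y)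
    (by rw [← map_pow, ← map_pow, h])
  obtain ⟨r, hr⟩ := IsIntegrallyClosed.algebraMap_eq_of_integral (R := R) (x := u)
    (.of_pow two_pos (hu2 ▸ isIntegral_algebraMap))
  exact ⟨r, hinj (by rw [map_pow, hr, hu2]), hinj (by rw [map_pow, hr, hu3])⟩

lemma section_ext {X : Scheme.{u}} [IsReduced X] {s t : Γ(X, ⊤)}
    (h : ∀ p : X, X.Γevaluation p s = X.Γevaluation p t) : s = t := by
  rw [← sub_eq_zero, ← basicOpen_eq_bot_iff]
  refine (Scheme.basicOpen_eq_bot_iff_forall_evaluation_eq_zero X (s - t)).2 fun p => ?_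
  exact (map_sub _ _ _).trans (sub_eq_zero.2 (h p))

/-- Functions varying along DVRs being uniquely algebraic forces seminormality. -/
theorem isSeminormalRing_sections {X : Scheme.{u}} [IsReduced X]
    (h : ∀ f : PtFun X, f.VariesAlongDVR → ∃! a : Γ(X, ⊤), PtFun.ofSection X a = f) :
    HTop.IsSeminormalRing Γ(X, ⊤) := by
  intro x y hxy
  have hsol : ∀ p : X, ∃ u : X.residueField p, X.Γevaluation p x = u ^ 2 ∧ X.Γevaluation p y = u ^ 3 :=
    fun p => exists_sq_cube_field _ _ (by rw [← map_pow, ← map_pow, hxy])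
  choose f hf2 hf3 using hsol
  obtain ⟨a, ha, -⟩ := h f (fun R _ _ _ g => by
    let e : Γ(Spec (CommRingCat.of R), ⊤) ≃+* R := (Scheme.ΓSpecIso (CommRingCat.of R)).commRingCatIsoToRingEquiv
    obtain ⟨r, hr2, hr3⟩ := exists_sq_cube (e (g.appTop x)) (e (g.appTop y))
      (by rw [← map_pow, ← map_pow, ← map_pow, ← map_pow, hxy])
    refine ⟨e.symm r, funext fun p => eq_of_sq_cube ?_ ?_⟩
    · show ((Spec (CommRingCat.of R)).Γevaluation p (e.symm r)) ^ 2 = (g.residueFieldMap p (f (g p))) ^ 2
      rw [← map_pow, ← map_pow, ← map_pow, ← hr2, ← hf2, e.symm_apply_apply,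
        Scheme.Γevaluation_naturality_apply]
    · show ((Spec (CommRingCat.of R)).Γevaluation p (e.symm r)) ^ 3 = (g.residueFieldMap p (f (g p))) ^ 3
      rw [← map_pow, ← map_pow, ← map_pow, ← hr3, ← hf3, e.symm_apply_apply,
        Scheme.Γevaluation_naturality_apply])
  have hval : ∀ p, X.Γevaluation p a = f p := fun p => congrFun ha p
  refine ⟨a, ⟨section_ext fun p => ?_, section_ext fun p => ?_⟩, fun b hb => section_ext fun p => ?_⟩
  · rw [map_pow, hval, hf2]
  · rw [map_pow, hval, hf3]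
  · refine eq_of_sq_cube ?_ ?_
    · rw [hval, ← map_pow, ← hb.1, hf2]
    · rw [hval, ← map_pow, ← hb.2, hf3]

lemma isSeminormalRing_of_ringEquiv {A B : Type u} [CommRing A] [CommRing B] (e : A ≃+* B)
    (h : HTop.IsSeminormalRing B) : HTop.IsSeminormalRing A := by
  intro x y hxy
  obtain ⟨b, ⟨hb2, hb3⟩, hu⟩ := h (e x) (e y) (by rw [← map_pow, ← map_pow, hxy])
  refine ⟨e.symm b, ⟨e.injective (by simp [hb2]), e.injective (by simp [hb3])⟩, fun a ha => ?_⟩
  rw [← hu (e a) ⟨by simp [ha.1], by simp [ha.2]⟩, e.symm_apply_apply]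

end Groth.Agent.SNPtFun
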